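import Cfsg.Agent.Lib.Grp.G25.D0

set_option autoImplicit false
set_option maxRecDepth 100000
set_option Elab.async false
set_option linter.unusedSectionVars false

namespace Cfsg.Agent.CG.G25

noncomputable def t0 : Tr ℕ := (.node (.node (.node (.leaf t0_0) (.leaf t0_4)) (.leaf t0_2)) (.node (.node (.leaf t0_1) (.leaf t0_5)) (.leaf t0_3)))
noncomputable def t1 : Tr ℕ := (.node (.node (.node (.leaf t1_0) (.leaf t1_4)) (.leaf t1_2)) (.node (.node (.leaf t1_1) (.leaf t1_5)) (.leaf t1_3)))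
noncomputable def t2 : Tr ℕ := (.node (.node (.node (.leaf t2_0) (.leaf t2_4)) (.leaf t2_2)) (.node (.node (.leaf t2_1) (.leaf t2_5)) (.leaf t2_3)))
noncomputable def t3 : Tr ℕ := (.node (.node (.node (.leaf t3_0) (.leaf t3_4)) (.leaf t3_2)) (.node (.node (.leaf t3_1) (.leaf t3_5)) (.leaf t3_3)))
noncomputable def t4 : Tr ℕ := (.node (.node (.node (.leaf t4_0) (.leaf t4_4)) (.leaf t4_2)) (.node (.node (.leaf t4_1) (.leaf t4_5)) (.leaf t4_3)))
noncomputable def t5 : Tr ℕ := (.node (.node (.node (.leaf t5_0) (.leaf t5_4)) (.leaf t5_2)) (.node (.node (.leaf t5_1) (.leaf t5_5)) (.leaf t5_3)))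
noncomputable def t6 : Tr ℕ := (.node (.node (.node (.leaf t6_0) (.leaf t6_4)) (.leaf t6_2)) (.node (.node (.leaf t6_1) (.leaf t6_5)) (.leaf t6_3)))
noncomputable def t7 : Tr ℕ := (.node (.node (.node (.leaf t7_0) (.leaf t7_4)) (.leaf t7_2)) (.node (.node (.leaf t7_1) (.leaf t7_5)) (.leaf t7_3)))
noncomputable def t8 : Tr ℕ := (.node (.node (.node (.leaf t8_0) (.leaf t8_4)) (.leaf t8_2)) (.node (.node (.leaf t8_1) (.leaf t8_5)) (.leaf t8_3)))
noncomputable def t9 : Tr ℕ := (.node (.node (.node (.leaf t9_0) (.leaf t9_4)) (.leaf t9_2)) (.node (.node (.leaf t9_1) (.leaf t9_5)) (.leaf t9_3)))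
noncomputable def t10 : Tr ℕ := (.node (.node (.node (.leaf t10_0) (.leaf t10_4)) (.leaf t10_2)) (.node (.node (.leaf t10_1) (.leaf t10_5)) (.leaf t10_3)))
noncomputable def t11 : Tr ℕ := (.node (.node (.node (.leaf t11_0) (.leaf t11_4)) (.leaf t11_2)) (.node (.node (.leaf t11_1) (.leaf t11_5)) (.leaf t11_3)))
noncomputable def t12 : Tr ℕ := (.node (.node (.node (.leaf t12_0) (.leaf t12_4)) (.leaf t12_2)) (.node (.node (.leaf t12_1) (.leaf t12_5)) (.leaf t12_3)))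
noncomputable def t13 : Tr ℕ := (.node (.node (.node (.leaf t13_0) (.leaf t13_4)) (.leaf t13_2)) (.node (.node (.leaf t13_1) (.leaf t13_5)) (.leaf t13_3)))
noncomputable def t14 : Tr ℕ := (.node (.node (.node (.leaf t14_0) (.leaf t14_4)) (.leaf t14_2)) (.node (.node (.leaf t14_1) (.leaf t14_5)) (.leaf t14_3)))
noncomputable def t15 : Tr ℕ := (.node (.node (.node (.leaf t15_0) (.leaf t15_4)) (.leaf t15_2)) (.node (.node (.leaf t15_1) (.leaf t15_5)) (.leaf t15_3)))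
noncomputable def t16 : Tr ℕ := (.node (.node (.node (.leaf t16_0) (.leaf t16_4)) (.leaf t16_2)) (.node (.node (.leaf t16_1) (.leaf t16_5)) (.leaf t16_3)))
noncomputable def t17 : Tr ℕ := (.node (.node (.node (.leaf t17_0) (.leaf t17_4)) (.leaf t17_2)) (.node (.node (.leaf t17_1) (.leaf t17_5)) (.leaf t17_3)))
noncomputable def t18 : Tr ℕ := (.node (.node (.node (.leaf t18_0) (.leaf t18_4)) (.leaf t18_2)) (.node (.node (.leaf t18_1) (.leaf t18_5)) (.leaf t18_3)))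
noncomputable def t19 : Tr ℕ := (.node (.node (.node (.leaf t19_0) (.leaf t19_4)) (.leaf t19_2)) (.node (.node (.leaf t19_1) (.leaf t19_5)) (.leaf t19_3)))
noncomputable def t20 : Tr ℕ := (.node (.node (.node (.leaf t20_0) (.leaf t20_4)) (.leaf t20_2)) (.node (.node (.leaf t20_1) (.leaf t20_5)) (.leaf t20_3)))
noncomputable def t21 : Tr ℕ := (.node (.node (.node (.leaf t21_0) (.leaf t21_4)) (.leaf t21_2)) (.node (.node (.leaf t21_1) (.leaf t21_5)) (.leaf t21_3)))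
noncomputable def t22 : Tr ℕ := (.node (.node (.node (.leaf t22_0) (.leaf t22_4)) (.leaf t22_2)) (.node (.node (.leaf t22_1) (.leaf t22_5)) (.leaf t22_3)))
noncomputable def t23 : Tr ℕ := (.node (.node (.node (.leaf t23_0) (.leaf t23_4)) (.leaf t23_2)) (.node (.node (.leaf t23_1) (.leaf t23_5)) (.leaf t23_3)))
noncomputable def t24 : Tr ℕ := (.node (.node (.node (.leaf t24_0) (.leaf t24_4)) (.leaf t24_2)) (.node (.node (.leaf t24_1) (.leaf t24_5)) (.leaf t24_3)))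
noncomputable def t25 : Tr ℕ := (.node (.node (.node (.leaf t25_0) (.leaf t25_4)) (.leaf t25_2)) (.node (.node (.leaf t25_1) (.leaf t25_5)) (.leaf t25_3)))
noncomputable def t26 : Tr ℕ := (.node (.node (.node (.leaf t26_0) (.leaf t26_4)) (.leaf t26_2)) (.node (.node (.leaf t26_1) (.leaf t26_5)) (.leaf t26_3)))
noncomputable def t27 : Tr ℕ := (.node (.node (.node (.leaf t27_0) (.leaf t27_4)) (.leaf t27_2)) (.node (.node (.leaf t27_1) (.leaf t27_5)) (.leaf t27_3)))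
noncomputable def t28 : Tr ℕ := (.node (.node (.node (.leaf t28_0) (.leaf t28_4)) (.leaf t28_2)) (.node (.node (.leaf t28_1) (.leaf t28_5)) (.leaf t28_3)))
noncomputable def t29 : Tr ℕ := (.node (.node (.node (.leaf t29_0) (.leaf t29_4)) (.leaf t29_2)) (.node (.node (.leaf t29_1) (.leaf t29_5)) (.leaf t29_3)))
noncomputable def t30 : Tr ℕ := (.node (.node (.node (.leaf t30_0) (.leaf t30_4)) (.leaf t30_2)) (.node (.node (.leaf t30_1) (.leaf t30_5)) (.leaf t30_3)))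
noncomputable def t31 : Tr ℕ := (.node (.node (.node (.leaf t31_0) (.leaf t31_4)) (.leaf t31_2)) (.node (.node (.leaf t31_1) (.leaf t31_5)) (.leaf t31_3)))
noncomputable def t32 : Tr ℕ := (.node (.node (.node (.leaf t32_0) (.leaf t32_4)) (.leaf t32_2)) (.node (.node (.leaf t32_1) (.leaf t32_5)) (.leaf t32_3)))
noncomputable def t33 : Tr ℕ := (.node (.node (.node (.leaf t33_0) (.leaf t33_4)) (.leaf t33_2)) (.node (.node (.leaf t33_1) (.leaf t33_5)) (.leaf t33_3)))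
noncomputable def t34 : Tr ℕ := (.node (.node (.node (.leaf t34_0) (.leaf t34_4)) (.leaf t34_2)) (.node (.node (.leaf t34_1) (.leaf t34_5)) (.leaf t34_3)))
noncomputable def t35 : Tr ℕ := (.node (.node (.node (.leaf t35_0) (.leaf t35_4)) (.leaf t35_2)) (.node (.node (.leaf t35_1) (.leaf t35_5)) (.leaf t35_3)))
noncomputable def t36 : Tr ℕ := (.node (.node (.node (.leaf t36_0) (.leaf t36_4)) (.leaf t36_2)) (.node (.node (.leaf t36_1) (.leaf t36_5)) (.leaf t36_3)))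
noncomputable def t37 : Tr ℕ := (.node (.node (.node (.leaf t37_0) (.leaf t37_4)) (.leaf t37_2)) (.node (.node (.leaf t37_1) (.leaf t37_5)) (.leaf t37_3)))
noncomputable def t38 : Tr ℕ := (.node (.node (.node (.leaf t38_0) (.leaf t38_4)) (.leaf t38_2)) (.node (.node (.leaf t38_1) (.leaf t38_5)) (.leaf t38_3)))
noncomputable def t39 : Tr ℕ := (.node (.node (.node (.leaf t39_0) (.leaf t39_4)) (.leaf t39_2)) (.node (.node (.leaf t39_1) (.leaf t39_5)) (.leaf t39_3)))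
noncomputable def t40 : Tr ℕ := (.node (.node (.node (.leaf t40_0) (.leaf t40_4)) (.leaf t40_2)) (.node (.node (.leaf t40_1) (.leaf t40_5)) (.leaf t40_3)))
noncomputable def t41 : Tr ℕ := (.node (.node (.node (.leaf t41_0) (.leaf t41_4)) (.leaf t41_2)) (.node (.node (.leaf t41_1) (.leaf t41_5)) (.leaf t41_3)))
noncomputable def t42 : Tr ℕ := (.node (.node (.node (.leaf t42_0) (.leaf t42_4)) (.leaf t42_2)) (.node (.node (.leaf t42_1) (.leaf t42_5)) (.leaf t42_3)))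
noncomputable def t43 : Tr ℕ := (.node (.node (.node (.leaf t43_0) (.leaf t43_4)) (.leaf t43_2)) (.node (.node (.leaf t43_1) (.leaf t43_5)) (.leaf t43_3)))
noncomputable def t44 : Tr ℕ := (.node (.node (.node (.leaf t44_0) (.leaf t44_4)) (.leaf t44_2)) (.node (.node (.leaf t44_1) (.leaf t44_5)) (.leaf t44_3)))
noncomputable def t45 : Tr ℕ := (.node (.node (.node (.leaf t45_0) (.leaf t45_4)) (.leaf t45_2)) (.node (.node (.leaf t45_1) (.leaf t45_5)) (.leaf t45_3)))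
noncomputable def t46 : Tr ℕ := (.node (.node (.node (.leaf t46_0) (.leaf t46_4)) (.leaf t46_2)) (.node (.node (.leaf t46_1) (.leaf t46_5)) (.leaf t46_3)))
noncomputable def t47 : Tr ℕ := (.node (.node (.node (.leaf t47_0) (.leaf t47_4)) (.leaf t47_2)) (.node (.node (.leaf t47_1) (.leaf t47_5)) (.leaf t47_3)))
noncomputable def t48 : Tr ℕ := (.node (.node (.node (.leaf t48_0) (.leaf t48_4)) (.leaf t48_2)) (.node (.node (.leaf t48_1) (.leaf t48_5)) (.leaf t48_3)))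
noncomputable def t49 : Tr ℕ := (.node (.node (.node (.leaf t49_0) (.leaf t49_4)) (.leaf t49_2)) (.node (.node (.leaf t49_1) (.leaf t49_5)) (.leaf t49_3)))
noncomputable def mc0c : Tr ℕ := (.node (.node (.node (.leaf mc0c_0) (.leaf mc0c_4)) (.leaf mc0c_2)) (.node (.node (.leaf mc0c_1) (.leaf mc0c_5)) (.leaf mc0c_3)))
noncomputable def mc0p : Tr ℕ := (.node (.node (.node (.leaf mc0p_0) (.leaf mc0p_4)) (.leaf mc0p_2)) (.node (.leaf mc0p_1) (.leaf mc0p_3)))
noncomputable def mc0l : Tr ℕ := (.node (.node (.leaf mc0l_0) (.leaf mc0l_2)) (.leaf mc0l_1))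
noncomputable def mc0i : Tr ℕ := (.node (.node (.leaf mc0i_0) (.leaf mc0i_2)) (.leaf mc0i_1))
noncomputable def mc0q : Tr ℕ := (.node (.node (.node (.leaf mc0q_0) (.leaf mc0q_4)) (.leaf mc0q_2)) (.node (.node (.leaf mc0q_1) (.leaf mc0q_5)) (.leaf mc0q_3)))
noncomputable def mc1c : Tr ℕ := (.node (.node (.leaf mc1c_0) (.leaf mc1c_2)) (.node (.leaf mc1c_1) (.leaf mc1c_3)))
noncomputable def mc1p : Tr ℕ := (.node (.node (.leaf mc1p_0) (.leaf mc1p_2)) (.node (.leaf mc1p_1) (.leaf mc1p_3)))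
noncomputable def mc1l : Tr ℕ := (.node (.leaf mc1l_0) (.leaf mc1l_1))
noncomputable def mc1i : Tr ℕ := (.node (.leaf mc1i_0) (.leaf mc1i_1))
noncomputable def mc1q : Tr ℕ := (.node (.node (.node (.leaf mc1q_0) (.leaf mc1q_4)) (.leaf mc1q_2)) (.node (.node (.leaf mc1q_1) (.leaf mc1q_5)) (.leaf mc1q_3)))
noncomputable def mc2q : Tr ℕ := (.node (.node (.node (.leaf mc2q_0) (.leaf mc2q_4)) (.leaf mc2q_2)) (.node (.node (.leaf mc2q_1) (.leaf mc2q_5)) (.leaf mc2q_3)))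
noncomputable def tabs : List (Tr ℕ) := [t0,t1,t2,t3,t4,t5,t6,t7,t8,t9,t10,t11,t12,t13,t14,t15,t16,t17,t18,t19,t20,t21,t22,t23,t24,t25,t26,t27,t28,t29,t30,t31,t32,t33,t34,t35,t36,t37,t38,t39,t40,t41,t42,t43,t44,t45,t46,t47,t48]
noncomputable abbrev app : ℕ → ℕ → ℕ := appB tabs t49 0xfffff
noncomputable def slpL : List (Bool × List ℕ) := [(false,[]),
  (false,[]),
  (false,[]),
  (false,[]),
  (false,[]),
  (false,[]),
  (false,[]),
  (false,[]),
  (false,[]),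
  (false,[]),
  (false,[]),
  (false,[]),
  (false,[]),
  (false,[]),
  (false,[]),
  (false,[]),
  (false,[]),
  (false,[15,5,8,7]),
  (true,[17]),
  (false,[8,10,18]),
  (true,[19]),
  (false,[14,20,13]),
  (true,[21]),
  (false,[11]),
  (true,[23]),
  (false,[9]),
  (true,[25]),
  (false,[1]),
  (true,[27]),
  (false,[13]),
  (true,[29]),
  (false,[2,9,3]),
  (true,[31]),
  (false,[4]),
  (true,[33]),
  (false,[15]),
  (true,[35]),
  (false,[7,0,6]),
  (true,[37]),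
  (false,[2,1,3]),
  (true,[39]),
  (false,[3,8,6,18]),
  (true,[41]),
  (false,[36,28,40,36]),
  (true,[43]),
  (false,[40]),
  (true,[45]),
  (false,[27]),
  (true,[47])]
noncomputable def slp (a : ℕ) : Bool × List ℕ := nth slpL (false, []) a
noncomputable def invL : List ℕ := [1,0,3,2,5,4,7,6,8,10,9,12,11,14,13,16,15,18,17,20,19,22,21,24,23,26,25,28,27,30,29,32,31,34,33,36,35,38,37,40,39,42,41,44,43,46,45,48,47]
noncomputable def inv (a : ℕ) : ℕ := nth invL 49 a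
noncomputable def bs : List ℕ := [0,120,80]
noncomputable def mc0 : Lvl := ⟨0, [0,1,2,3,4,5,6,7,8,9,10,11,12,13,14,15,16,17,18,19,20,21,22], 19530,
  fun i => lk2 mc0c 0xfffff (Nat.mul 20 i), fun i => lk2 mc0p 0xffff (Nat.mul 16 i),
  fun i => lk2 mc0l 0xff (Nat.mul 8 i), fun i => lk2 mc0i 0xff (Nat.mul 8 i), fun x => lk2 mc0q 0xfffff x, 5⟩
noncomputable def mc1 : Lvl := ⟨120, [23,24,25,26,27,28,29,30,31,32,33,34,35,36,37,38,39,40,41,42], 12500,
  fun i => lk2 mc1c 0xfffff (Nat.mul 20 i), fun i => lk2 mc1p 0xffff (Nat.mul 16 i),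
  fun i => lk2 mc1l 0xff (Nat.mul 8 i), fun i => lk2 mc1i 0xff (Nat.mul 8 i), fun x => lk2 mc1q 0xfffff x, 6⟩
noncomputable def mc2 : Lvl := ⟨80, [43,44,45,46,47,48], 24,
  fun i => look 0xfffff mc2c (Nat.mul 20 i), fun i => look 0xff mc2p (Nat.mul 8 i),
  fun i => look 0xff mc2l (Nat.mul 8 i), fun i => look 0xff mc2i (Nat.mul 8 i), fun x => lk2 mc2q 0xfffff x, 3⟩
noncomputable def mc : List Lvl := [mc0, mc1, mc2]
noncomputable def tcR : List (List ℕ) := [[0,1],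
  [2,3],
  [4,5],
  [6,7],
  [8,8],
  [9,10],
  [11,12],
  [13,14],
  [15,16],
  [0,0,0,0,0,0,0,0],
  [2,2,2,2,2],
  [0,2,0,2,0,2,0,2],
  [1,1,3,0,0,2],
  [1,3,0,2,1,3,0,2,1,3,0,2],
  [9,1,5,0],
  [11,3,5,2],
  [13,2,5,3],
  [15,10,5,9,4],
  [4,4,4,4,4],
  [15,15,15,15,15],
  [5,16,4,15],
  [10,16,9,15],
  [12,16,11,15],
  [14,16,13,15],
  [5,12,4,11,15,15],
  [5,14,4,13,16,16],
  [10,12,9,11,15],
  [10,14,9,13],
  [12,14,11,13,15],
  [1,9,0,4,4],
  [1,11,0,14,5,11,11],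
  [1,13,0,14,5,14,11,9,5],
  [1,15,0,16,16],
  [3,9,2,13,4,13,12,10],
  [3,11,2,11,11,14,5,5],
  [3,15,2,16],
  [8,7,5,7,2,1,3,5,7,1,5,0,5,1,4,0,2,2],
  [8,4,8,4,3,12,3],
  [8,11,8,0,13,4,10,1,3,3],
  [8,13,8,14,11,3,3],
  [8,15,8,13,5,11,5],
  [8,0,0,8,13,16,5,1,2,1,3,3,1],
  [8,2,8,13,13,11,5],
  [8,0,2,2,0,3,0,8,13,16,5,1,1],
  [8,9,8,10,8,9,14,0,11,0,0,0],
  [6,8,3,9,1,8,1,8,1,15,13,4,2,0,3,3,1],
  [6,6,1,1,1,1],
  [3,7,2,6],
  [7,0,6,1,1,1],
  [6,15,6,15,6,15,6,15,6,15],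
  [6,15,6,16,6,15,1,1]]
noncomputable def tcS : List ℕ := [0,1,2,3,4,5,6,7,8,9,10,11,12,13,14,15,16]

end Cfsg.Agent.CG.G25
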