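import Cfsg.Agent.Lib.Grp.G25.Defs

set_option autoImplicit false
set_option maxRecDepth 100000
set_option Elab.async false
set_option linter.unusedSectionVars false

namespace Cfsg.Agent.CG.G25

theorem c100 : oneAll 20 (appB tabs t49 0xfffff) [6,8,3,9,1,8,1,8,1,15,13,4,2,0,3,3,1] 0 19530 = true := by decide +kernel
theorem c101 : oneAll 20 (appB tabs t49 0xfffff) [6,6,1,1,1,1] 0 19530 = true := by decide +kernel
theorem c102 : oneAll 20 (appB tabs t49 0xfffff) [3,7,2,6] 0 19530 = true := by decide +kernel
theorem c103 : oneAll 20 (appB tabs t49 0xfffff) [7,0,6,1,1,1] 0 19530 = true := by decide +kernel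
theorem c104 : oneAll 20 (appB tabs t49 0xfffff) [6,15,6,15,6,15,6,15,6,15] 0 19530 = true := by decide +kernel
theorem c105 : oneAll 20 (appB tabs t49 0xfffff) [6,15,6,16,6,15,1,1] 0 19530 = true := by decide +kernel

end Cfsg.Agent.CG.G25
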