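import Cfsg.Agent.Lib.Grp.G25.Defs

set_option autoImplicit false
set_option maxRecDepth 100000
set_option Elab.async false
set_option linter.unusedSectionVars false

namespace Cfsg.Agent.CG.G25

theorem c0 : allRange (chkBase 19530 20 (appB tabs t49 0xfffff) 0 (inv 0)) 0 19530 = true := by decide +kernel
theorem c1 : allRange (chkBase 19530 20 (appB tabs t49 0xfffff) 1 (inv 1)) 0 19530 = true := by decide +kernel
theorem c2 : allRange (chkBase 19530 20 (appB tabs t49 0xfffff) 2 (inv 2)) 0 19530 = true := by decide +kernel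
theorem c3 : allRange (chkBase 19530 20 (appB tabs t49 0xfffff) 3 (inv 3)) 0 19530 = true := by decide +kernel
theorem c4 : allRange (chkBase 19530 20 (appB tabs t49 0xfffff) 4 (inv 4)) 0 19530 = true := by decide +kernel
theorem c5 : allRange (chkBase 19530 20 (appB tabs t49 0xfffff) 5 (inv 5)) 0 19530 = true := by decide +kernel
theorem c6 : allRange (chkBase 19530 20 (appB tabs t49 0xfffff) 6 (inv 6)) 0 19530 = true := by decide +kernel
theorem c7 : allRange (chkBase 19530 20 (appB tabs t49 0xfffff) 7 (inv 7)) 0 19530 = true := by decide +kernel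
theorem c8 : allRange (chkBase 19530 20 (appB tabs t49 0xfffff) 8 (inv 8)) 0 19530 = true := by decide +kernel
theorem c9 : allRange (chkBase 19530 20 (appB tabs t49 0xfffff) 9 (inv 9)) 0 19530 = true := by decide +kernel
theorem c10 : allRange (chkBase 19530 20 (appB tabs t49 0xfffff) 10 (inv 10)) 0 19530 = true := by decide +kernel
theorem c11 : allRange (chkBase 19530 20 (appB tabs t49 0xfffff) 11 (inv 11)) 0 19530 = true := by decide +kernel
theorem c12 : allRange (chkBase 19530 20 (appB tabs t49 0xfffff) 12 (inv 12)) 0 19530 = true := by decide +kernel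
theorem c13 : allRange (chkBase 19530 20 (appB tabs t49 0xfffff) 13 (inv 13)) 0 19530 = true := by decide +kernel
theorem c14 : allRange (chkBase 19530 20 (appB tabs t49 0xfffff) 14 (inv 14)) 0 19530 = true := by decide +kernel
theorem c15 : allRange (chkBase 19530 20 (appB tabs t49 0xfffff) 15 (inv 15)) 0 19530 = true := by decide +kernel
theorem c16 : allRange (chkBase 19530 20 (appB tabs t49 0xfffff) 16 (inv 16)) 0 19530 = true := by decide +kernel
theorem c17 : chkDef 20 (appB tabs t49 0xfffff) 17 (slp 17) 0 19530 = true := by decide +kernel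
theorem c18 : chkDef 20 (appB tabs t49 0xfffff) 18 (slp 18) 0 19530 = true := by decide +kernel
theorem c19 : chkDef 20 (appB tabs t49 0xfffff) 19 (slp 19) 0 19530 = true := by decide +kernel
theorem c20 : chkDef 20 (appB tabs t49 0xfffff) 20 (slp 20) 0 19530 = true := by decide +kernel
theorem c21 : chkDef 20 (appB tabs t49 0xfffff) 21 (slp 21) 0 19530 = true := by decide +kernel
theorem c22 : chkDef 20 (appB tabs t49 0xfffff) 22 (slp 22) 0 19530 = true := by decide +kernel
theorem c23 : chkDef 20 (appB tabs t49 0xfffff) 23 (slp 23) 0 19530 = true := by decide +kernel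
theorem c24 : chkDef 20 (appB tabs t49 0xfffff) 24 (slp 24) 0 19530 = true := by decide +kernel
theorem c25 : chkDef 20 (appB tabs t49 0xfffff) 25 (slp 25) 0 19530 = true := by decide +kernel
theorem c26 : chkDef 20 (appB tabs t49 0xfffff) 26 (slp 26) 0 19530 = true := by decide +kernel
theorem c27 : chkDef 20 (appB tabs t49 0xfffff) 27 (slp 27) 0 19530 = true := by decide +kernel
theorem c28 : chkDef 20 (appB tabs t49 0xfffff) 28 (slp 28) 0 19530 = true := by decide +kernel
theorem c29 : chkDef 20 (appB tabs t49 0xfffff) 29 (slp 29) 0 19530 = true := by decide +kernel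
theorem c30 : chkDef 20 (appB tabs t49 0xfffff) 30 (slp 30) 0 19530 = true := by decide +kernel
theorem c31 : chkDef 20 (appB tabs t49 0xfffff) 31 (slp 31) 0 19530 = true := by decide +kernel
theorem c32 : chkDef 20 (appB tabs t49 0xfffff) 32 (slp 32) 0 19530 = true := by decide +kernel
theorem c33 : chkDef 20 (appB tabs t49 0xfffff) 33 (slp 33) 0 19530 = true := by decide +kernel
theorem c34 : chkDef 20 (appB tabs t49 0xfffff) 34 (slp 34) 0 19530 = true := by decide +kernel
theorem c35 : chkDef 20 (appB tabs t49 0xfffff) 35 (slp 35) 0 19530 = true := by decide +kernel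
theorem c36 : chkDef 20 (appB tabs t49 0xfffff) 36 (slp 36) 0 19530 = true := by decide +kernel
theorem c37 : chkDef 20 (appB tabs t49 0xfffff) 37 (slp 37) 0 19530 = true := by decide +kernel
theorem c38 : chkDef 20 (appB tabs t49 0xfffff) 38 (slp 38) 0 19530 = true := by decide +kernel
theorem c39 : chkDef 20 (appB tabs t49 0xfffff) 39 (slp 39) 0 19530 = true := by decide +kernel
theorem c40 : chkDef 20 (appB tabs t49 0xfffff) 40 (slp 40) 0 19530 = true := by decide +kernel
theorem c41 : chkDef 20 (appB tabs t49 0xfffff) 41 (slp 41) 0 19530 = true := by decide +kernel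
theorem c42 : chkDef 20 (appB tabs t49 0xfffff) 42 (slp 42) 0 19530 = true := by decide +kernel
theorem c43 : chkDef 20 (appB tabs t49 0xfffff) 43 (slp 43) 0 19530 = true := by decide +kernel
theorem c44 : chkDef 20 (appB tabs t49 0xfffff) 44 (slp 44) 0 19530 = true := by decide +kernel
theorem c45 : chkDef 20 (appB tabs t49 0xfffff) 45 (slp 45) 0 19530 = true := by decide +kernel
theorem c46 : chkDef 20 (appB tabs t49 0xfffff) 46 (slp 46) 0 19530 = true := by decide +kernel
theorem c47 : chkDef 20 (appB tabs t49 0xfffff) 47 (slp 47) 0 19530 = true := by decide +kernel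
theorem c48 : chkDef 20 (appB tabs t49 0xfffff) 48 (slp 48) 0 19530 = true := by decide +kernel
theorem c49 : chkDef 20 (appB tabs t49 0xfffff) 49 (false, []) 0 19530 = true := by decide +kernel
theorem c50 : mc0.chk (appB tabs t49 0xfffff) 1 19529 = true := by decide +kernel
theorem c51 : mc1.chk (appB tabs t49 0xfffff) 1 12499 = true := by decide +kernel
theorem c52 : mc2.chk (appB tabs t49 0xfffff) 1 23 = true := by decide +kernel
theorem c53 : okcb 19530 20 (bases mc) = true := by decide +kernel
theorem c54 : headAll (appB tabs t49 0xfffff) mc [] = true := by decide +kernel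
theorem c55 : oneAll 20 (appB tabs t49 0xfffff) [0,1] 0 19530 = true := by decide +kernel
theorem c56 : oneAll 20 (appB tabs t49 0xfffff) [2,3] 0 19530 = true := by decide +kernel
theorem c57 : oneAll 20 (appB tabs t49 0xfffff) [4,5] 0 19530 = true := by decide +kernel
theorem c58 : oneAll 20 (appB tabs t49 0xfffff) [6,7] 0 19530 = true := by decide +kernel
theorem c59 : oneAll 20 (appB tabs t49 0xfffff) [8,8] 0 19530 = true := by decide +kernel
theorem c60 : oneAll 20 (appB tabs t49 0xfffff) [9,10] 0 19530 = true := by decide +kernel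
theorem c61 : oneAll 20 (appB tabs t49 0xfffff) [11,12] 0 19530 = true := by decide +kernel
theorem c62 : oneAll 20 (appB tabs t49 0xfffff) [13,14] 0 19530 = true := by decide +kernel
theorem c63 : oneAll 20 (appB tabs t49 0xfffff) [15,16] 0 19530 = true := by decide +kernel
theorem c64 : oneAll 20 (appB tabs t49 0xfffff) [0,0,0,0,0,0,0,0] 0 19530 = true := by decide +kernel
theorem c65 : oneAll 20 (appB tabs t49 0xfffff) [2,2,2,2,2] 0 19530 = true := by decide +kernel
theorem c66 : oneAll 20 (appB tabs t49 0xfffff) [0,2,0,2,0,2,0,2] 0 19530 = true := by decide +kernel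
theorem c67 : oneAll 20 (appB tabs t49 0xfffff) [1,1,3,0,0,2] 0 19530 = true := by decide +kernel
theorem c68 : oneAll 20 (appB tabs t49 0xfffff) [1,3,0,2,1,3,0,2,1,3,0,2] 0 19530 = true := by decide +kernel
theorem c69 : oneAll 20 (appB tabs t49 0xfffff) [9,1,5,0] 0 19530 = true := by decide +kernel
theorem c70 : oneAll 20 (appB tabs t49 0xfffff) [11,3,5,2] 0 19530 = true := by decide +kernel
theorem c71 : oneAll 20 (appB tabs t49 0xfffff) [13,2,5,3] 0 19530 = true := by decide +kernel
theorem c72 : oneAll 20 (appB tabs t49 0xfffff) [15,10,5,9,4] 0 19530 = true := by decide +kernel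
theorem c73 : oneAll 20 (appB tabs t49 0xfffff) [4,4,4,4,4] 0 19530 = true := by decide +kernel
theorem c74 : oneAll 20 (appB tabs t49 0xfffff) [15,15,15,15,15] 0 19530 = true := by decide +kernel
theorem c75 : oneAll 20 (appB tabs t49 0xfffff) [5,16,4,15] 0 19530 = true := by decide +kernel
theorem c76 : oneAll 20 (appB tabs t49 0xfffff) [10,16,9,15] 0 19530 = true := by decide +kernel
theorem c77 : oneAll 20 (appB tabs t49 0xfffff) [12,16,11,15] 0 19530 = true := by decide +kernel
theorem c78 : oneAll 20 (appB tabs t49 0xfffff) [14,16,13,15] 0 19530 = true := by decide +kernel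
theorem c79 : oneAll 20 (appB tabs t49 0xfffff) [5,12,4,11,15,15] 0 19530 = true := by decide +kernel
theorem c80 : oneAll 20 (appB tabs t49 0xfffff) [5,14,4,13,16,16] 0 19530 = true := by decide +kernel
theorem c81 : oneAll 20 (appB tabs t49 0xfffff) [10,12,9,11,15] 0 19530 = true := by decide +kernel
theorem c82 : oneAll 20 (appB tabs t49 0xfffff) [10,14,9,13] 0 19530 = true := by decide +kernel
theorem c83 : oneAll 20 (appB tabs t49 0xfffff) [12,14,11,13,15] 0 19530 = true := by decide +kernel
theorem c84 : oneAll 20 (appB tabs t49 0xfffff) [1,9,0,4,4] 0 19530 = true := by decide +kernel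
theorem c85 : oneAll 20 (appB tabs t49 0xfffff) [1,11,0,14,5,11,11] 0 19530 = true := by decide +kernel
theorem c86 : oneAll 20 (appB tabs t49 0xfffff) [1,13,0,14,5,14,11,9,5] 0 19530 = true := by decide +kernel
theorem c87 : oneAll 20 (appB tabs t49 0xfffff) [1,15,0,16,16] 0 19530 = true := by decide +kernel
theorem c88 : oneAll 20 (appB tabs t49 0xfffff) [3,9,2,13,4,13,12,10] 0 19530 = true := by decide +kernel
theorem c89 : oneAll 20 (appB tabs t49 0xfffff) [3,11,2,11,11,14,5,5] 0 19530 = true := by decide +kernel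
theorem c90 : oneAll 20 (appB tabs t49 0xfffff) [3,15,2,16] 0 19530 = true := by decide +kernel
theorem c91 : oneAll 20 (appB tabs t49 0xfffff) [8,7,5,7,2,1,3,5,7,1,5,0,5,1,4,0,2,2] 0 19530 = true := by decide +kernel
theorem c92 : oneAll 20 (appB tabs t49 0xfffff) [8,4,8,4,3,12,3] 0 19530 = true := by decide +kernel
theorem c93 : oneAll 20 (appB tabs t49 0xfffff) [8,11,8,0,13,4,10,1,3,3] 0 19530 = true := by decide +kernel
theorem c94 : oneAll 20 (appB tabs t49 0xfffff) [8,13,8,14,11,3,3] 0 19530 = true := by decide +kernel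
theorem c95 : oneAll 20 (appB tabs t49 0xfffff) [8,15,8,13,5,11,5] 0 19530 = true := by decide +kernel
theorem c96 : oneAll 20 (appB tabs t49 0xfffff) [8,0,0,8,13,16,5,1,2,1,3,3,1] 0 19530 = true := by decide +kernel
theorem c97 : oneAll 20 (appB tabs t49 0xfffff) [8,2,8,13,13,11,5] 0 19530 = true := by decide +kernel
theorem c98 : oneAll 20 (appB tabs t49 0xfffff) [8,0,2,2,0,3,0,8,13,16,5,1,1] 0 19530 = true := by decide +kernel
theorem c99 : oneAll 20 (appB tabs t49 0xfffff) [8,9,8,10,8,9,14,0,11,0,0,0] 0 19530 = true := by decide +kernel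

end Cfsg.Agent.CG.G25
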